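import Mathlib.AlgebraicGeometry.Morphisms.Proper
import Mathlib.AlgebraicGeometry.Morphisms.Finite
import Mathlib.AlgebraicGeometry.Morphisms.ClosedImmersion
import Mathlib.AlgebraicGeometry.PullbackCarrier
import Groth.Prelude.Def_ClSub2
import Groth.Agent.SepDescent.Basic

/-!
# Closed subsets proper over a base (`ClSub.IsProperOver`)

* `of_range`: the range of `g : T ⟶ X` is proper over `S` if `g ≫ f` is proper and `g` universally
  closed; `isProper_comp`: closed subschemes supported in such a set are proper;
* `mono`, `union`, `iUnion`, `empty`.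
-/

universe u

open CategoryTheory CategoryTheory.Limits AlgebraicGeometry TopologicalSpace

namespace Groth.Agent.ProperOver

variable {X S T : Scheme.{u}} {f : X ⟶ S} [LocallyOfFiniteType f]

/-- A scheme dominated by a proper one through a universally closed surjection is proper. -/
theorem isProper_of_surjective {A B : Scheme.{u}} (p : A ⟶ B) (q : B ⟶ S) [Surjective p]
    [UniversallyClosed p] [LocallyOfFiniteType q] [IsProper (p ≫ q)] : IsProper q := by
  have : IsSeparated (p ≫ q) := inferInstance
  have := SepDescent.isSeparated_of_comp p q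
  have := UniversallyClosed.of_comp_surjective p q
  constructor

omit [LocallyOfFiniteType f] in
theorem isProper_comp_of_le {I J : X.IdealSheafData} (h : I ≤ J) (hI : IsProper (I.subschemeι ≫ f)) :
    IsProper (J.subschemeι ≫ f) := by
  have : IsClosedImmersion (Scheme.IdealSheafData.inclusion h ≫ I.subschemeι) := by
    rw [Scheme.IdealSheafData.inclusion_subschemeι]; infer_instance
  have := IsClosedImmersion.of_comp (Scheme.IdealSheafData.inclusion h) I.subschemeι
  rw [← Scheme.IdealSheafData.inclusion_subschemeι (J := J) (I := I) h, Category.assoc]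
  infer_instance

theorem le_vanishingIdeal_range (g : T ⟶ X) [QuasiCompact g] (h : IsClosed (Set.range g)) :
    g.ker ≤ Scheme.IdealSheafData.vanishingIdeal ⟨Set.range g, h⟩ := by
  rw [← Scheme.IdealSheafData.le_support_iff_le_vanishingIdeal]
  intro x hx
  exact (Scheme.Hom.support_ker g).ge (subset_closure hx)

omit [LocallyOfFiniteType f] in
theorem mono {Z Z' : Set X} (hZ : ClSub.IsProperOver f Z) (hZ' : IsClosed Z') (hsub : Z' ⊆ Z)
    [LocallyOfFiniteType f] : ClSub.IsProperOver f Z' :=
  ⟨hZ', isProper_comp_of_le (Scheme.IdealSheafData.vanishingIdeal_antimono hsub) hZ.2⟩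

/-- The range of a universally closed map from a scheme proper over the base. -/
theorem of_range (g : T ⟶ X) [UniversallyClosed g] [IsProper (g ≫ f)] :
    ClSub.IsProperOver f (Set.range g) := by
  have hcl : IsClosed (Set.range g) := g.isClosedMap.isClosed_range
  have : UniversallyClosed (g.toImage ≫ g.imageι) := by rw [Scheme.Hom.toImage_imageι]; infer_instance
  have : UniversallyClosed g.toImage := UniversallyClosed.of_comp_of_isSeparated g.toImage g.imageι
  have : Surjective g.toImage := ⟨by
    rw [← Set.range_eq_univ]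
    have h1 := g.toImage.denseRange
    rwa [denseRange_iff_closure_range, g.toImage.isClosedMap.isClosed_range.closure_eq] at h1⟩
  have : IsProper (g.toImage ≫ g.imageι ≫ f) := by
    rw [Scheme.Hom.toImage_imageι_assoc]; infer_instance
  have : IsProper (g.imageι ≫ f) := isProper_of_surjective g.toImage _
  exact ⟨hcl, isProper_comp_of_le (le_vanishingIdeal_range g hcl) this⟩

/-- Closed subschemes with support inside a set proper over `S` are proper over `S`. -/
theorem isProper_comp {Z : Set X} (hZ : ClSub.IsProperOver f Z) (i : T ⟶ X) [IsClosedImmersion i]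
    (hi : Set.range i ⊆ Z) : IsProper (i ≫ f) := by
  have hcl : IsClosed (Set.range i) := i.isClosedEmbedding.isClosed_range
  obtain ⟨_, h⟩ := mono hZ hcl hi
  let J := Scheme.IdealSheafData.vanishingIdeal ⟨Set.range i, hcl⟩
  have hle : i.ker ≤ J.subschemeι.ker := by
    rw [Scheme.IdealSheafData.ker_subschemeι]; exact le_vanishingIdeal_range i hcl
  let j := IsClosedImmersion.lift i J.subschemeι hle
  have hj : j ≫ i = J.subschemeι := IsClosedImmersion.lift_fac _ _ _
  have : IsClosedImmersion (j ≫ i) := by rw [hj]; infer_instance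
  have := IsClosedImmersion.of_comp j i
  have : Surjective j := ⟨fun t => by
    have ht : i t ∈ Set.range J.subschemeι := by
      rw [Scheme.IdealSheafData.range_subschemeι, Scheme.IdealSheafData.coe_support_vanishingIdeal]
      exact ⟨t, rfl⟩
    obtain ⟨s, hs⟩ := ht
    refine ⟨s, i.isClosedEmbedding.injective ?_⟩
    rw [← hs, ← hj]; rfl⟩
  have : IsProper (j ≫ i ≫ f) := by rw [reassoc_of% hj]; exact h
  exact isProper_of_surjective j _

theorem range_coprod_desc {A B : Scheme.{u}} (a : A ⟶ X) (b : B ⟶ X) :
    Set.range (coprod.desc a b) = Set.range a ∪ Set.range b := by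
  ext x
  constructor
  · rintro ⟨z, rfl⟩
    obtain ⟨w, rfl⟩ := (coprodMk A B).surjective z
    rcases w with w | w
    · exact Or.inl ⟨w, by rw [coprodMk_inl, ← Scheme.Hom.comp_apply, coprod.inl_desc]⟩
    · exact Or.inr ⟨w, by rw [coprodMk_inr, ← Scheme.Hom.comp_apply, coprod.inr_desc]⟩
  · rintro (⟨w, rfl⟩ | ⟨w, rfl⟩)
    · exact ⟨(coprod.inl : A ⟶ _) w, by rw [← Scheme.Hom.comp_apply, coprod.inl_desc]⟩
    · exact ⟨(coprod.inr : B ⟶ _) w, by rw [← Scheme.Hom.comp_apply, coprod.inr_desc]⟩

theorem union {Z Z' : Set X} (hZ : ClSub.IsProperOver f Z) (hZ' : ClSub.IsProperOver f Z') :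
    ClSub.IsProperOver f (Z ∪ Z') := by
  obtain ⟨h, hp⟩ := hZ
  obtain ⟨h', hp'⟩ := hZ'
  let a := (Scheme.IdealSheafData.vanishingIdeal ⟨Z, h⟩).subschemeι
  let b := (Scheme.IdealSheafData.vanishingIdeal ⟨Z', h'⟩).subschemeι
  have : IsProper (coprod.map (a ≫ f) (b ≫ f)) :=
    IsZariskiLocalAtTarget.coprodMap (P := @IsProper) _ _ hp hp'
  have : IsProper (coprod.desc a b ≫ f) := by
    rw [show coprod.desc a b ≫ f = coprod.map (a ≫ f) (b ≫ f) ≫ coprod.desc (𝟙 S) (𝟙 S) by
      rw [coprod.map_desc, coprod.desc_comp, Category.comp_id, Category.comp_id]]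
    infer_instance
  have hr := of_range (f := f) (coprod.desc a b)
  rwa [range_coprod_desc, Scheme.IdealSheafData.range_subschemeι,
    Scheme.IdealSheafData.range_subschemeι, Scheme.IdealSheafData.coe_support_vanishingIdeal,
    Scheme.IdealSheafData.coe_support_vanishingIdeal] at hr

theorem empty : ClSub.IsProperOver f (∅ : Set X) := by
  have : IsProper (Scheme.emptyTo X ≫ f) := by
    have : IsFinite (Scheme.emptyTo X ≫ f) := inferInstance
    infer_instance
  have hr := of_range (f := f) (Scheme.emptyTo X)
  rwa [Set.range_eq_empty (Scheme.emptyTo X)] at hr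

theorem iUnion {ι : Type*} [Finite ι] (Z : ι → Set X) (hZ : ∀ i, ClSub.IsProperOver f (Z i)) :
    ClSub.IsProperOver f (⋃ i, Z i) := by
  classical
  have := Fintype.ofFinite ι
  suffices H : ∀ s : Finset ι, ClSub.IsProperOver f (⋃ i ∈ s, Z i) by simpa using H Finset.univ
  intro s
  induction s using Finset.induction_on with
  | empty => simpa using empty
  | insert a s _ ih => rw [Finset.set_biUnion_insert]; exact union (hZ a) ih

omit [LocallyOfFiniteType f] in
theorem preimage_of_isClosed {Z : Set X} (hZ : ClSub.IsProperOver f Z) {Y : Scheme.{u}} (g : Y ⟶ X)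
    (q : Y ⟶ S) [LocallyOfFiniteType q] [IsProper g] (w : g ≫ f = q) :
    ClSub.IsProperOver q (g ⁻¹' Z) := by
  obtain ⟨h, hp⟩ := hZ
  let i := (Scheme.IdealSheafData.vanishingIdeal ⟨Z, h⟩).subschemeι
  have : IsProper (pullback.fst g i ≫ q) := by
    rw [← w, pullback.condition_assoc]
    have : IsProper (i ≫ f) := hp
    infer_instance
  have hr := of_range (f := q) (pullback.fst g i)
  rwa [Scheme.Pullback.range_fst, Scheme.IdealSheafData.range_subschemeι,
    Scheme.IdealSheafData.coe_support_vanishingIdeal] at hr

end Groth.Agent.ProperOver
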